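import Cfsg.Agent.H482.TwoCyc.Row
import Cfsg.Agent.H685.OutDegCl
import Cfsg.Agent.S2332
import Cfsg.Agent.S2262
import Cfsg.Agent.H511.Cyc.PslFour

/-!
# TWOCYC (S3507): the row `PSL_n(q)`, `n ≥ 3` (helper511)

* `smC_psl` : `SmC (PSL_n(q))` for `n ≥ 3`, `(n, q) ≠ (3, 2), (4, 2), (4, 3)`;
* `row_psl43` : the group `PSL_4(3)`;
* `row_psl` : both together.
-/

set_option autoImplicit false

namespace Cfsg.Agent.H511.Cyc

open MulAction Cfsg.Agent.H384.Cyc Cfsg.Agent.H482.TwoCyc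
open Cfsg Cfsg.Agent.PermutationGroups.MultFree Cfsg.Agent.PermutationGroups.IrrSum
  Cfsg.Agent.PermutationGroups.Subdegree
open Cfsg.Agent.Characters.Core (isCharacter_comp isIrr_isCharacter isCharacter_one classInner_isNat
  classInner_irr_self)

universe u v

/-- rank at least four forces many points -/
theorem three_delta {G : Type u} {Ω : Type v} [Group G] [MulAction G Ω] {T : Subgroup G} {g : G} (h : TC G Ω T g)
    (hcon : ¬ rk G Ω ≤ 3) {δ : ℕ} (hδ : H954.OutDeg.MD ↥T δ) : 3 * δ + 1 ≤ Nat.card Ω := by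
  classical
  have := h.finG
  have := h.finΩ
  have := h.norm
  have := h.simple
  have := h.prim
  have := Fintype.ofFinite G
  have := Fintype.ofFinite Ω
  have := Fintype.ofFinite T
  have := Fintype.ofFinite (Subgroup.zpowers g)
  obtain ⟨htr, -⟩ := exists_index h
  have hne : Nonempty Ω := by
    by_contra hcon
    rw [not_nonempty_iff] at hcon
    have := h.two
    unfold Two at this
    rw [Nat.card_of_isEmpty] at this
    omega
  obtain ⟨a⟩ := hne
  obtain ⟨m, hm1, hm2, hm3, hm4⟩ := exists_decomp' (G := G) a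
  obtain ⟨c, hc⟩ := exists_mult (Subgroup.zpowers g)
  obtain ⟨t, ht⟩ := exists_mult T
  have hoC := card_orbits (Subgroup.zpowers g) hc hm1
  have hoT := card_orbits T ht hm1
  set one : IrrCharacter G := ⟨_, isIrr_one⟩ with hone
  have hmem : one ∈ m.support := by
    rw [Finsupp.mem_support_iff, hm2]
    exact one_ne_zero
  obtain ⟨S, hS⟩ : ∃ S, S = m.support.erase one := ⟨_, rfl⟩
  have hsplit : ∀ f : IrrCharacter G → ℕ, ∑ ψ ∈ m.support, f ψ = f one + ∑ ψ ∈ S, f ψ := by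
    intro f
    rw [hS]
    exact (Finset.add_sum_erase _ f hmem).symm
  have hself : ∀ (K : Subgroup G) [Fintype K] (r : IrrCharacter G → ℕ),
      (∀ ψ : IrrCharacter G, classInner (fun k : K => (ψ : G → ℂ) k) (fun _ => 1) = r ψ) →
      r one = 1 := by
    intro K _ r hr
    have h5 := hr one
    have h6 : classInner (fun k : K => (one : G → ℂ) k) (fun _ => 1) = 1 := classInner_irr_self (G := K) isIrr_one
    rw [h6] at h5
    exact_mod_cast h5.symm
  have hc1 := hself _ c hc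
  have ht1 := hself _ t ht
  rw [h.two, hsplit, hm2, hc1] at hoC
  have hT1 : Nat.card (orbitRel.Quotient T Ω) = 1 := by
    rw [Nat.card_eq_one_iff_unique]
    refine ⟨⟨fun x y => ?_⟩, ⟨Quotient.mk'' a⟩⟩
    obtain ⟨x, rfl⟩ := Quotient.exists_rep x
    obtain ⟨y, rfl⟩ := Quotient.exists_rep y
    obtain ⟨s, hs⟩ := exists_smul_eq T y x
    exact Quotient.sound ⟨s, hs⟩
  rw [hT1, hsplit, hm2, ht1] at hoT
  have hoT' : ∑ ψ ∈ S, m ψ * t ψ = 0 := by omega
  rw [Finset.sum_eq_zero_iff] at hoT'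
  have hrk : rk G Ω = Nat.card (orbitRel.Quotient (stabilizer G a) Ω) := Cfsg.Agent.S0669.result a
  rw [hrk, ← hm3, hsplit, hm2] at hcon
  have key := three_le_sum S m c (by omega) (by omega)
  rw [hsplit, hm2] at hm4
  have hd1 : 1 ≤ charDegree (one : G → ℂ) :=
    Cfsg.Agent.Blocks.Basic.charDegree_pos (isIrr_one (G := G))
  have hsum : (∑ ψ ∈ S, m ψ) * δ ≤ ∑ ψ ∈ S, m ψ * charDegree (ψ : G → ℂ) := by
    rw [Finset.sum_mul]
    refine Finset.sum_le_sum fun ψ hψ => Nat.mul_le_mul_left _ ?_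
    refine le_charDegree T h.nonab hδ ψ ?_
    have h5 := hoT' ψ hψ
    have h6 : m ψ ≠ 0 := by
      rw [hS] at hψ
      exact Finsupp.mem_support_iff.mp (Finset.mem_of_mem_erase hψ)
    have h7 : t ψ = 0 := by
      rcases Nat.mul_eq_zero.mp h5 with h8 | h8
      · exact absurd h8 h6
      · exact h8
    rw [ht, h7, Nat.cast_zero]
  have h5 : 3 * δ ≤ (∑ ψ ∈ S, m ψ) * δ := Nat.mul_le_mul_right _ key
  omega


section psl

open Matrix Cfsg.Agent.H954.OutDeg Cfsg.Agent.H934.OutCl Cfsg.Agent.H934.OutB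
open Cfsg.Agent.ClassicalGeometry.AutPSL.Root Cfsg.Agent.H934.IdxSL Cfsg.Agent.H934.IdxCl Cfsg.Agent.H685.OutDegCl

/-- minimal degrees from the representations of a covering group -/
theorem md_of_rep {Y : Type u} {X : Type v} [Group Y] [Group X] (π : Y →* X) (hπ : Function.Surjective π) {d : ℕ}
    (h : ∀ (k : ℕ) (ρ : Representation ℂ Y (Fin k → ℂ)), ρ.IsIrreducible → 2 ≤ k → d ≤ k) : MD X d := by
  intro χ hχ
  have h1 : IsIrrCharacter Y ((χ : X → ℂ) ∘ π) := Cfsg.Agent.Characters.Core.isIrr_comp π hπ χ.2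
  obtain ⟨n, ρ, hρ, hn⟩ := h1
  have h2 : ρ.character 1 = (n : ℂ) := by
    rw [Representation.char_one, Module.finrank_fin_fun]
  have h3 : charDegree (χ : X → ℂ) = n := by
    apply Cfsg.Agent.Blocks.Basic.charDegree_of_eq
    rw [← h2, hn]
    show (χ : X → ℂ) 1 = (χ : X → ℂ) (π 1)
    rw [map_one]
  have h4 := Cfsg.Agent.Blocks.Basic.charDegree_pos χ.2
  rw [h3] at hχ h4 ⊢
  exact h n ρ hρ (by omega)

variable {F : Type u} [Field F] [Fintype F]

theorem mo_psl {n : ℕ} (hn : 3 ≤ n) (h32 : ¬ (n = 3 ∧ Fintype.card F = 2)) :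
    Mo (ProjectiveSpecialLinearGroup (Fin n) F) ((Fintype.card F ^ n - 1) / (Fintype.card F - 1)) := by
  intro α
  have hq : 2 ≤ Fintype.card F := Fintype.one_lt_card
  have h1 := (S2262.result (F := F) n (by omega) (by omega) (by omega) h32).1 α
  rw [Nat.le_div_iff_mul_le (by omega), mul_comm]
  exact h1

theorem md_psl {n : ℕ} (hn : 3 ≤ n)
    (hex : (n, Fintype.card F) ≠ (3, 2) ∧ (n, Fintype.card F) ≠ (3, 4) ∧ (n, Fintype.card F) ≠ (4, 2) ∧
      (n, Fintype.card F) ≠ (4, 3)) :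
    MD (ProjectiveSpecialLinearGroup (Fin n) F) ((Fintype.card F ^ n - Fintype.card F) / (Fintype.card F - 1)) := by
  classical
  exact md_of_rep (QuotientGroup.mk' (Subgroup.center (SpecialLinearGroup (Fin n) F))) (QuotientGroup.mk'_surjective _)
    (S2332.result n hn hex).1

/-- the subgroup of all transvections with a fixed centre -/
theorem md_tr {n : ℕ} (hn : 3 ≤ n) (hs : IsSimpleGroup (ProjectiveSpecialLinearGroup (Fin n) F)) :
    MD (ProjectiveSpecialLinearGroup (Fin n) F) (Fintype.card F ^ (n - 1) - 1) := by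
  classical
  have := finite_psl (F := F) n
  obtain ⟨i0, j0, hij⟩ := Fintype.one_lt_card_iff.1 (show 1 < Fintype.card (Fin n) by
    rw [Fintype.card_fin]; omega)
  have ha1 : (Pi.single i0 1 : Fin n → F) ≠ 0 := by simp
  refine (md_fused ((QuotientGroup.mk' (Subgroup.center (SpecialLinearGroup (Fin n) F))))
    (Qs (Pi.single i0 1 : Fin n → F)) ?_ (Qs_isConj (by rwa [Fintype.card_fin]) ha1)
    ⟨tr _ _ (hs_of hij), mem_Qs.2 ⟨_, _, rfl⟩,
      ne_one_of_not_comm (MonoidHom.id _) Function.injective_id (Cfsg.Agent.H934.IdxCl.not_comm hij)⟩).mono ?_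
  · rintro _ ⟨φ, h, rfl⟩ _ ⟨ψ, h', rfl⟩
    rw [tr_mul_same_center _ _ _ h h', tr_mul_same_center _ _ _ h' h]
    apply sl_ext
    intro z
    rw [tr_mulVec, tr_mulVec, add_comm φ ψ]
  · have := card_Qs (F := F) i0
    rw [Fintype.card_fin] at this
    omega

theorem arith_a {q n : ℕ} (hq : 2 ≤ q) (hn : 3 ≤ n) : (q ^ n - 1) / (q - 1) = (q ^ n - q) / (q - 1) + 1 ∧
    2 ≤ (q ^ n - q) / (q - 1) := by
  have h1 : q ^ 3 ≤ q ^ n := Nat.pow_le_pow_right (by omega) hn
  have h2 : q + 2 * (q - 1) ≤ q ^ 3 := by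
    obtain ⟨a, rfl⟩ : ∃ a, q = a + 2 := ⟨q - 2, by omega⟩
    have : (a + 2) ^ 3 = a ^ 3 + 6 * a ^ 2 + 12 * a + 8 := by ring
    have h3 : a + 2 - 1 = a + 1 := by omega
    rw [this, h3]
    have := Nat.zero_le (a ^ 3)
    have := Nat.zero_le (a ^ 2)
    omega
  constructor
  · have h3 : q ^ n - 1 = (q ^ n - q) + (q - 1) := by omega
    rw [h3, Nat.add_div_right _ (by omega)]
  · rw [Nat.le_div_iff_mul_le (by omega)]
    omega

/-- **`SmC` for `PSL_n(q)`, `n ≥ 3`.** -/
theorem smC_psl {n : ℕ} (hn : 3 ≤ n) (hs : IsSimpleGroup (ProjectiveSpecialLinearGroup (Fin n) F))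
    (h32 : ¬ (n = 3 ∧ Fintype.card F = 2)) (h42 : ¬ (n = 4 ∧ Fintype.card F = 2))
    (h43 : ¬ (n = 4 ∧ Fintype.card F = 3)) : SmC (ProjectiveSpecialLinearGroup (Fin n) F) := by
  have hq : 2 ≤ Fintype.card F := Fintype.one_lt_card
  by_cases h34 : n = 3 ∧ Fintype.card F = 4
  · obtain ⟨rfl, h4⟩ := h34
    have h1 := mo_psl (F := F) le_rfl h32
    have h2 := md_tr (F := F) le_rfl hs
    rw [h4] at h1 h2
    exact ⟨_, _, h1, h2, by norm_num⟩
  · obtain ⟨h1, h2⟩ := arith_a hq hn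
    refine ⟨_, _, mo_psl hn h32, md_psl (F := F) hn ⟨?_, ?_, ?_, ?_⟩, ?_⟩
    · intro h; exact h32 (Prod.ext_iff.1 h)
    · intro h; exact h34 (Prod.ext_iff.1 h)
    · intro h; exact h42 (Prod.ext_iff.1 h)
    · intro h; exact h43 (Prod.ext_iff.1 h)
    · rw [h1]; omega

/-- **`PSL_4(3)`** -/
theorem row_psl43 : Row3.{u, v} (fun T _ => ∃ (F : Type) (_ : Field F) (_ : Fintype F), Fintype.card F = 3 ∧
    Nonempty (T ≃* ProjectiveSpecialLinearGroup (Fin 4) F)) := by
  classical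
  intro G Ω _ _ T g h hS
  by_contra hcon
  have := h.finG
  have := h.finΩ
  have := h.norm
  have hsT := h.simple
  obtain ⟨F, _, _, hF, ⟨e⟩⟩ := hS
  have hsF : IsSimpleGroup (ProjectiveSpecialLinearGroup (Fin 4) F) := e.symm.isSimpleGroup
  have hmd : MD ↥T 26 := by
    have h1 := md_tr (F := F) (n := 4) (by norm_num) hsF
    rw [hF] at h1
    exact (MD.congr h1 e.symm).mono (by norm_num)
  have hmo : Mo ↥T 40 := by
    have h1 := mo_psl (F := F) (n := 4) (by norm_num) (by omega)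
    rw [hF] at h1
    exact Mo.congr h1 e.symm
  have h79 := three_delta h hcon hmd
  have hg := orderOf_le h.cent hmo g
  have hle := card_le h.two
  have hsame : ∀ a b : Ω, Nat.card (orbit (Subgroup.zpowers g) a) = Nat.card (orbit (Subgroup.zpowers g) b) := by
    by_contra hne
    push Not at hne
    have := card_le' h.two hne
    omega
  have hne : Nonempty Ω := by
    by_contra hcon
    rw [not_nonempty_iff] at hcon
    rw [Nat.card_of_isEmpty] at h79
    omega
  obtain ⟨a⟩ := hne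
  have h80 : Nat.card Ω = 80 := by
    have := Fintype.ofFinite (orbitRel.Quotient (Subgroup.zpowers g) Ω)
    have h1 := card_eq_sum (K := Subgroup.zpowers g) (Ω := Ω)
    have h2 : ∀ q : orbitRel.Quotient (Subgroup.zpowers g) Ω, Nat.card q.orbit =
        Nat.card (orbit (Subgroup.zpowers g) a) := by
      intro q
      obtain ⟨b, rfl⟩ := Quotient.exists_rep q
      exact hsame b a
    rw [Finset.sum_congr rfl (fun q _ => h2 q), Finset.sum_const, Finset.card_univ, ← Nat.card_eq_fintype_card,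
      h.two, smul_eq_mul] at h1
    omega
  obtain ⟨h1, h2⟩ := (exists_index h).2 a
  rw [h80] at h1
  apply index_ne hF ((stabilizer T a).map e.toMonoidHom)
  rw [Subgroup.index_map_of_bijective (f := e.toMonoidHom) e.bijective, h1]

/-- **The row `PSL_n(q)`, `n ≥ 3`.** -/
theorem row_psl : Row3.{u, v} (fun T _ => ∃ (F : Type) (_ : Field F) (_ : Fintype F) (n : ℕ), 3 ≤ n ∧
    ¬ (n = 3 ∧ Fintype.card F = 2) ∧ ¬ (n = 4 ∧ Fintype.card F = 2) ∧
    Nonempty (T ≃* ProjectiveSpecialLinearGroup (Fin n) F)) := by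
  intro G Ω _ _ T g h hS
  obtain ⟨F, _, _, n, hn, h32, h42, ⟨e⟩⟩ := hS
  have hsT := h.simple
  have hsF : IsSimpleGroup (ProjectiveSpecialLinearGroup (Fin n) F) := e.symm.isSimpleGroup
  by_cases h43 : n = 4 ∧ Fintype.card F = 3
  · obtain ⟨rfl, hF⟩ := h43
    exact row_psl43 G Ω T g h ⟨F, inferInstance, inferInstance, hF, ⟨e⟩⟩
  · exact row_smC G Ω T g h ((smC_psl hn hsF h32 h42 h43).congr e.symm)

end psl

end Cfsg.Agent.H511.Cyc
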