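import Mathlib

/-!
# TWOCYC (S3507): decidable check of congruences (helper511)
-/

set_option autoImplicit false

namespace Cfsg.Agent.H511.Cyc.Adm

/-- admissible residues -/
def adm (n r : ℕ) (L : List ℕ) : Bool := Nat.beq (n % r) 0 || L.any fun t => Nat.beq (n % r) (t % r)

theorem adm_of {n r c : ℕ} (h : r ∣ n ∨ ∃ t, t ∣ c ∧ n ≡ t [MOD r]) {L : List ℕ} (hL : ∀ t, t ∣ c → t ∈ L) :
    adm n r L = true := by
  unfold adm
  rcases h with h | ⟨t, ht, h⟩
  · rw [Nat.mod_eq_zero_of_dvd h]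
    rfl
  · rw [Bool.or_eq_true]
    right
    rw [List.any_eq_true]
    exact ⟨t, hL t ht, by rw [Nat.beq_eq]; exact h⟩

theorem div_mem {c : ℕ} {L : List ℕ} (h : (List.range (c + 1)).all (fun t => !Nat.beq (c % t) 0 || L.contains t) = true)
    (hc : 0 < c) : ∀ t, t ∣ c → t ∈ L := by
  intro t ht
  rw [List.all_eq_true] at h
  have h1 := h t (List.mem_range.2 (Nat.lt_succ_of_le (Nat.le_of_dvd hc ht)))
  rw [Nat.mod_eq_zero_of_dvd ht] at h1
  simpa using h1

end Cfsg.Agent.H511.Cyc.Adm
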