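import Cfsg.Agent.H511.Cyc.J4Ord
import Cfsg.Agent.H511.Cyc.Adm

/-!
# TWOCYC (S3507): the row of the fourth Janko group (helper511)

* `index_gt` : the proper subgroups have index bigger than 960;
* `sm_j4`, `ord_j4`.
-/

set_option autoImplicit false
set_option maxRecDepth 100000

namespace Cfsg.Agent.H511.Cyc.J4

open Subgroup Cfsg Cfsg.Agent.H384.Cyc Cfsg.Agent.H511.Cyc.Adm
open Cfsg.Agent.H859 Cfsg.Agent.H859.BigNum Cfsg.Agent.H859.BigCent Cfsg.Agent.H858

universe u

/-- the check -/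
def chk (n : ℕ) : Bool := Nat.beq (86775571046077562880 % n) 0 && (adm n 43 [1, 2, 7, 14] && (adm n 37 [1, 2, 3, 4, 6, 12] &&
  (adm n 31 [1, 2, 5, 10] && (adm n 29 [1, 2, 4, 7, 14, 28] && adm n 23 [1, 2, 11, 22]))))

theorem chk_all : (List.range 961).all (fun n => !chk n || (Nat.beq n 1 || Nat.beq n 2)) = true := by decide +kernel

theorem mod_of {r c : ℕ} (hr : r.Prime) (hr' : r = 23 ∨ r = 29 ∨ r = 31 ∨ r = 37 ∨ r = 43)
    (h : ∀ P : Subgroup Spor.J4, Nat.card P = r → Nat.card (normalizer (P : Set Spor.J4)) = r * c) (H : Subgroup Spor.J4) :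
    r ∣ H.index ∨ ∃ t, t ∣ c ∧ H.index ≡ t [MOD r] := by
  rcases index_mod (G := Spor.J4) (r := r) (c := c) hr
    (by rw [FixJ4.card_J4]; rcases hr' with rfl | rfl | rfl | rfl | rfl <;> norm_num)
    (by rw [FixJ4.card_J4]; rcases hr' with rfl | rfl | rfl | rfl | rfl <;> norm_num)
    (fun x hx => h (zpowers x) (by rw [Nat.card_zpowers, hx])) H with h | ⟨x, -, t, -, ht, h⟩
  · exact Or.inl h
  · exact Or.inr ⟨t, ht, h⟩

/-- **the indices of the proper subgroups** -/
theorem index_gt (H : Subgroup Spor.J4) (hH : H ≠ ⊤) : 960 < H.index := by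
  obtain ⟨-, hs, -⟩ := Cfsg.Agent.KFacts.J4.Base.exists_full (K := Cfsg.Spor.J4) ⟨MulEquiv.refl _⟩
  by_contra hcon
  have h43 := mod_of (c := 14) (by norm_num) (by simp) (fun P hP => (data43 hP).2) H
  have h37 := mod_of (c := 12) (by norm_num) (by simp) (fun P hP => (data37 hP).2) H
  have h31 := mod_of (c := 10) (by norm_num) (by simp) (fun P hP => (data31 hP).2) H
  have h29 := mod_of (c := 28) (by norm_num) (by simp) (fun P hP => (data29' hP).2) H
  have h23 := mod_of (c := 22) (by norm_num) (by simp) (fun P hP => (data23 hP).2) H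
  have hd : H.index ∣ 86775571046077562880 := by rw [← FixJ4.card_J4]; exact H.index_dvd_card
  have h1 := List.all_eq_true.1 chk_all H.index (List.mem_range.2 (by omega))
  have h2 : chk H.index = true := by
    unfold chk
    rw [Nat.mod_eq_zero_of_dvd hd, adm_of h43 (div_mem (by decide +kernel) (by norm_num)),
      adm_of h37 (div_mem (by decide +kernel) (by norm_num)), adm_of h31 (div_mem (by decide +kernel) (by norm_num)),
      adm_of h29 (div_mem (by decide +kernel) (by norm_num)), adm_of h23 (div_mem (by decide +kernel) (by norm_num))]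
    rfl
  rw [h2] at h1
  have h3 : H.index = 1 ∨ H.index = 2 := by simpa using h1
  rcases h3 with h3 | h3
  · exact hH (Subgroup.index_eq_one.1 h3)
  · have h4 := Subgroup.normal_of_index_eq_two h3
    rcases h4.eq_bot_or_eq_top with h5 | h5
    · rw [h5, Subgroup.index_bot, FixJ4.card_J4] at h3
      norm_num at h3
    · exact hH h5

theorem mo_j4 : Mo Spor.J4 480 := by
  obtain ⟨h1, h2, ⟨F⟩⟩ := Cfsg.Agent.KFacts.J4.Base.exists_full (K := Cfsg.Spor.J4) ⟨MulEquiv.refl _⟩
  intro a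
  obtain ⟨g, rfl⟩ := Cfsg.Agent.KFacts.J4.SheetJ4.inner F a
  exact (Nat.le_of_dvd (orderOf_pos g) (orderOf_map_dvd MulAut.conj g)).trans (orderOf_le g)

/-- **the row of the fourth Janko group** -/
theorem sm_j4 {T : Type u} [Group T] (h : Spor.IsoJ4 T) : Sm T := by
  obtain ⟨e⟩ := h
  exact Sm.congr ⟨480, mo_j4, index_gt⟩ e.symm

theorem ord_j4 {T : Type u} [Group T] (h : Spor.IsoJ4 T) : H384.Cyc.Ord T := by
  obtain ⟨e⟩ := h
  exact Ord.congr ⟨480, mo_j4, by rw [FixJ4.card_J4]; norm_num⟩ e.symm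

end Cfsg.Agent.H511.Cyc.J4
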