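import Cfsg.Agent.H511.Cyc.LyOrd

/-!
# TWOCYC (S3507): the row of the Lyons group (helper511)

* `orderOf_le` : the elements have order at most 333;
* `index_gt` : the proper subgroups have index bigger than 666;
* `sm_ly`, `ord_ly`.
-/

set_option autoImplicit false
set_option maxRecDepth 100000

namespace Cfsg.Agent.H511.Cyc.Ly

open Subgroup Cfsg Cfsg.Agent.H384.Cyc
open Cfsg.Agent.H582.Ly
open Cfsg.Agent.H513.NilpTools Cfsg.Agent.H513.CentTools

local notation "NL" => 51765179004000000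

universe u

/-! ### Self-normalizing subgroups of prime order -/

theorem exists_comm {H : Type u} [Group H] [Finite H] {r q : ℕ} (hr : r.Prime) (hq : q.Prime) (hrq : ¬ r ∣ q - 1)
    (hne : q ≠ r) (h2 : ¬ r ^ 2 ∣ Nat.card H) (hq2 : ¬ q ^ 2 ∣ Nat.card H) {x : H} (hx : orderOf x = r)
    (hN : Nat.card (normalizer (zpowers x : Set H)) = r) (hqH : q ∣ Nat.card H) :
    ∃ y z : H, orderOf y = q ∧ orderOf z = r ∧ y * z = z * y := by
  have : Fact r.Prime := ⟨hr⟩
  have : Fact q.Prime := ⟨hq⟩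
  have hP : IsPGroup r (zpowers x) := IsPGroup.of_card (n := 1) (by rw [Nat.card_zpowers, hx, pow_one])
  have hi : ¬ r ∣ (zpowers x).index := by
    intro h
    apply h2
    rw [← (zpowers x).card_mul_index, Nat.card_zpowers, hx, pow_two]
    exact Nat.mul_dvd_mul_left r h
  let P : Sylow r H := hP.toSylow hi
  have hPN : normalizer (P : Set H) ≤ centralizer (P : Set H) := by
    have h1 : zpowers x = normalizer (zpowers x : Set H) := by
      apply eq_of_le_of_card_ge le_normalizer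
      rw [hN, Nat.card_zpowers, hx]
    change normalizer (zpowers x : Set H) ≤ centralizer (zpowers x : Set H)
    rw [← h1]
    intro a ha
    rw [mem_centralizer_iff]
    intro b hb
    obtain ⟨i, rfl⟩ := ha
    obtain ⟨j, rfl⟩ := hb
    exact ((Commute.refl x).zpow_zpow j i).eq
  set N := (MonoidHom.transferSylow P hPN).ker with hNdef
  have hc : IsComplement' N P := MonoidHom.ker_transferSylow_isComplement' P hPN
  have hPc : Nat.card P = r := by
    change Nat.card (zpowers x) = r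
    rw [Nat.card_zpowers, hx]
  have hcard : Nat.card N * r = Nat.card H := by rw [← hPc]; exact hc.card_mul_card
  have hrN : ¬ r ∣ Nat.card N := by
    intro h
    apply h2
    rw [← hcard, pow_two]
    exact Nat.mul_dvd_mul_right h r
  have hqN : q ∣ Nat.card N := by
    rw [← hcard] at hqH
    refine (hq.dvd_mul.1 hqH).resolve_right fun h => hne ((Nat.prime_dvd_prime_iff_eq hq hr).1 h)
  obtain ⟨y, hy⟩ := exists_prime_orderOf_dvd_card' (G := N) q hqN
  have hq2N : ¬ q ^ 2 ∣ Nat.card N := fun h => hq2 (h.trans (card_subgroup_dvd_card N))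
  have hQ : IsPGroup q (zpowers y) := IsPGroup.of_card (n := 1) (by rw [Nat.card_zpowers, hy, pow_one])
  have hQi : ¬ q ∣ (zpowers y).index := by
    intro h
    apply hq2N
    rw [← (zpowers y).card_mul_index, Nat.card_zpowers, hy, pow_two]
    exact Nat.mul_dvd_mul_left q h
  let Q : Sylow q N := hQ.toSylow hQi
  have hF := Q.normalizer_sup_eq_top
  have hQm : (Q : Subgroup N).map N.subtype = zpowers (y : H) := by
    change (zpowers y).map N.subtype = _
    rw [MonoidHom.map_zpowers]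
    rfl
  rw [hQm, sup_comm] at hF
  have h3 : r ∣ Nat.card (normalizer (zpowers (y : H) : Set H)) := by
    by_contra h3
    exact hrN (dvd_of_dvd_sup hF hr h3 (by rw [← hcard]; exact Dvd.intro_left _ rfl))
  by_contra hcon
  refine not_dvd_norm hr hq (x := (y : H)) (by rw [Subgroup.orderOf_coe, hy]) hrq (fun z hz hzy => hcon ?_) h3
  exact ⟨y, z, by rw [Subgroup.orderOf_coe, hy], hz, hzy.symm⟩

/-! ### Orders -/

theorem exists_pow {x : Spor.Ly} {d : ℕ} (hd : d ∣ orderOf x) : ∃ k : ℕ, orderOf (x ^ k) = d :=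
  ⟨_, orderOf_pow_orderOf_div (orderOf_pos x).ne' hd⟩

theorem dvd_of_cent {x : Spor.Ly} {k N : ℕ} (h : Nat.card (centralizer ({x ^ k} : Set Spor.Ly)) ∣ N) : orderOf x ∣ N := by
  have h1 : x ∈ centralizer ({x ^ k} : Set Spor.Ly) :=
    mem_centralizer_singleton_iff.2 ((Commute.refl x).pow_right k).eq
  refine dvd_trans ?_ h
  rw [← Subgroup.orderOf_mk x h1]
  exact orderOf_dvd_natCard _

/-- **the orders of the elements** -/
theorem orderOf_le (x : Spor.Ly) : orderOf x ≤ 333 := by
  obtain ⟨x₀, ⟨D⟩⟩ := exists_data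
  have hpos := orderOf_pos x
  by_cases h2 : 2 ∣ orderOf x
  · obtain ⟨k, hk⟩ := exists_pow h2
    have hs : x ^ k * x ^ k = 1 := by rw [← pow_two, ← hk, pow_orderOf_eq_one]
    have hs1 : x ^ k ≠ 1 := by
      intro h
      rw [h, orderOf_one] at hk
      norm_num at hk
    obtain ⟨L', hL'⟩ := H513.AbLy.L.exists_rebase hs hs1
    have hx : x ∈ centralizer ({L'.t} : Set Spor.Ly) := by
      rw [hL']
      exact mem_centralizer_singleton_iff.2 ((Commute.refl x).pow_right k).eq
    have h3 := orderOf_perm (L'.K.π ⟨x, hx⟩)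
    have h4 : orderOf (L'.K.π ⟨x, hx⟩) ≤ 56 := by
      by_contra hcon
      have h5 : 57 ^ 3 ≤ orderOf (L'.K.π ⟨x, hx⟩) ^ 3 := Nat.pow_le_pow_left (by omega) 3
      rw [Fintype.card_fin] at h3
      have := h5.trans h3
      norm_num at this
    have h5 : orderOf x ∣ orderOf (L'.K.π ⟨x, hx⟩) * 2 := by
      rw [← Subgroup.orderOf_mk x hx]
      apply orderOf_dvd_of_pow_eq_one
      rw [pow_mul]
      have h6 : L'.K.π ((⟨x, hx⟩ : centralizer ({L'.t} : Set Spor.Ly)) ^ orderOf (L'.K.π ⟨x, hx⟩)) = 1 := by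
        rw [map_pow, pow_orderOf_eq_one]
      rcases (L'.K.ker _).1 h6 with h7 | h7
      · rw [h7, one_pow]
      · rw [h7, L'.K.z_pow_two]
    have h6 := Nat.le_of_dvd (Nat.mul_pos (orderOf_pos _) (by norm_num)) h5
    omega
  by_cases h67 : 67 ∣ orderOf x
  · obtain ⟨k, hk⟩ := exists_pow h67
    exact (Nat.le_of_dvd (by norm_num) (dvd_of_cent (dat67 hk).1.dvd)).trans (by norm_num)
  by_cases h37 : 37 ∣ orderOf x
  · obtain ⟨k, hk⟩ := exists_pow h37
    exact Nat.le_of_dvd (by norm_num) (dvd_of_cent (dat37 hk).1)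
  by_cases h31 : 31 ∣ orderOf x
  · obtain ⟨k, hk⟩ := exists_pow h31
    exact (Nat.le_of_dvd (by norm_num) (dvd_of_cent (dat31 hk).1)).trans (by norm_num)
  have h27 : ¬ 3 ^ (2 + 1) ∣ orderOf x := by
    intro h
    obtain ⟨k, hk⟩ := exists_pow h
    have h3 := pow_three (y := x ^ k) (n := 3) (by rw [← hk, pow_orderOf_eq_one])
    have h4 := orderOf_dvd_of_pow_eq_one h3
    rw [hk] at h4
    exact absurd (Nat.le_of_dvd (by norm_num) h4) (by norm_num)
  have h125 : ¬ 5 ^ (2 + 1) ∣ orderOf x := by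
    intro h
    obtain ⟨k, hk⟩ := exists_pow h
    have h3 := pow_five (y := x ^ k) (n := 3) (by rw [← hk, pow_orderOf_eq_one])
    have h4 := orderOf_dvd_of_pow_eq_one h3
    rw [hk] at h4
    exact absurd (Nat.le_of_dvd (by norm_num) h4) (by norm_num)
  have hd := orderOf_dvd_natCard x
  rw [H513.AbLy.card, show (NL : ℕ) = 2 ^ 8 * (31 ^ 1 * (37 ^ 1 * (67 ^ 1 * (5 ^ 6 * (3 ^ 7 * (7 * 11)))))) by norm_num] at hd
  have hd := dvd_cap Nat.prime_five h125 (dvd_drop (by norm_num) h67 (dvd_drop (by norm_num) h37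
    (dvd_drop (by norm_num) h31 (dvd_drop Nat.prime_two h2 hd))))
  rw [show (5 ^ 2 * (3 ^ 7 * (7 * 11)) : ℕ) = 3 ^ 7 * (5 ^ 2 * (7 * 11)) by norm_num] at hd
  have hd := dvd_cap Nat.prime_three h27 hd
  -- non-commuting elements
  have hcomm : ∀ i j : ℕ, x ^ i * x ^ j = x ^ j * x ^ i := fun i j => ((Commute.refl x).pow_pow i j).eq
  by_cases h11 : 11 ∣ orderOf x
  · obtain ⟨k, hk⟩ := exists_pow h11
    have h5 : ¬ 5 ∣ orderOf x := by
      intro h5
      obtain ⟨j, hj⟩ := exists_pow h5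
      exact eleven_five D.FT D.L D.card D.three hk hj (hcomm k j)
    have h7 : ¬ 7 ∣ orderOf x := by
      intro h7
      obtain ⟨j, hj⟩ := exists_pow h7
      exact seven D.L D.card (by norm_num) le_rfl hj hk (hcomm j k)
    rw [show (3 ^ 2 * (5 ^ 2 * (7 * 11)) : ℕ) = 5 ^ 2 * (7 ^ 1 * 99) by norm_num] at hd
    exact (Nat.le_of_dvd (by norm_num) (dvd_drop (by norm_num) h7 (dvd_drop Nat.prime_five h5 hd))).trans (by norm_num)
  by_cases h7 : 7 ∣ orderOf x
  · obtain ⟨k, hk⟩ := exists_pow h7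
    have h5 : ¬ 5 ∣ orderOf x := by
      intro h5
      obtain ⟨j, hj⟩ := exists_pow h5
      exact not_adj_five (by norm_num) (by norm_num) (by norm_num) hj hk (hcomm j k)
    rw [show (3 ^ 2 * (5 ^ 2 * (7 * 11)) : ℕ) = 5 ^ 2 * (11 ^ 1 * 63) by norm_num] at hd
    exact (Nat.le_of_dvd (by norm_num) (dvd_drop (by norm_num) h11 (dvd_drop Nat.prime_five h5 hd))).trans (by norm_num)
  · rw [show (3 ^ 2 * (5 ^ 2 * (7 * 11)) : ℕ) = 7 ^ 1 * (11 ^ 1 * 225) by norm_num] at hd
    exact (Nat.le_of_dvd (by norm_num) (dvd_drop (by norm_num) h11 (dvd_drop (by norm_num) h7 hd))).trans (by norm_num)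

/-! ### Indices -/

/-- admissible residues -/
def adm (n r : ℕ) (L : List ℕ) : Bool := Nat.beq (n % r) 0 || L.any fun t => Nat.beq (n % r) (t % r)

theorem adm_of {n r c : ℕ} (h : r ∣ n ∨ ∃ t, t ∣ c ∧ n ≡ t [MOD r]) {L : List ℕ} (hL : ∀ t, t ∣ c → t ∈ L) :
    adm n r L = true := by
  unfold adm
  rcases h with h | ⟨t, ht, h⟩
  · rw [Nat.mod_eq_zero_of_dvd h]
    rfl
  · rw [Bool.or_eq_true]
    right
    rw [List.any_eq_true]
    exact ⟨t, hL t ht, by rw [Nat.beq_eq]; exact h⟩

def chk (n : ℕ) : Bool := Nat.beq (NL % n) 0 && (adm n 67 [1, 2, 11, 22] && (adm n 37 [1, 2, 3, 6, 9, 18] &&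
  adm n 31 [1, 2, 3, 6]))

theorem chk_all : (List.range 667).all (fun n => !chk n || (Nat.beq n 1 || (Nat.beq n 2 || Nat.beq n 558))) = true := by
  decide +kernel

theorem div_mem {c : ℕ} {L : List ℕ} (h : (List.range (c + 1)).all (fun t => !Nat.beq (c % t) 0 || L.contains t) = true)
    (hc : 0 < c) : ∀ t, t ∣ c → t ∈ L := by
  intro t ht
  rw [List.all_eq_true] at h
  have h1 := h t (List.mem_range.2 (Nat.lt_succ_of_le (Nat.le_of_dvd hc ht)))
  rw [Nat.mod_eq_zero_of_dvd ht] at h1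
  simpa using h1

/-- **the indices of the proper subgroups** -/
theorem index_gt (H : Subgroup Spor.Ly) (hH : H ≠ ⊤) : 666 < H.index := by
  by_contra hcon
  have h67 := index_mod (G := Spor.Ly) (r := 67) (c := 22) (by norm_num) (by rw [H513.AbLy.card]; norm_num)
    (by rw [H513.AbLy.card]; norm_num) (fun x hx => (dat67 hx).2) H
  have h37 := index_mod (G := Spor.Ly) (r := 37) (c := 18) (by norm_num) (by rw [H513.AbLy.card]; norm_num)
    (by rw [H513.AbLy.card]; norm_num) (fun x hx => (dat37 hx).2) H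
  have h31 := index_mod (G := Spor.Ly) (r := 31) (c := 6) (by norm_num) (by rw [H513.AbLy.card]; norm_num)
    (by rw [H513.AbLy.card]; norm_num) (fun x hx => (dat31 hx).2) H
  have hw : ∀ {r c : ℕ} , (r ∣ H.index ∨ ∃ x : H, orderOf x = r ∧ ∃ t, t * Nat.card (normalizer (zpowers x : Set H)) = r * c ∧
      t ∣ c ∧ H.index ≡ t [MOD r]) → (r ∣ H.index ∨ ∃ t, t ∣ c ∧ H.index ≡ t [MOD r]) := by
    rintro r c (h | ⟨x, -, t, -, ht, h⟩)
    · exact Or.inl h
    · exact Or.inr ⟨t, ht, h⟩
  have hd : H.index ∣ NL := by rw [← H513.AbLy.card]; exact H.index_dvd_card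
  have h1 := List.all_eq_true.1 chk_all H.index (List.mem_range.2 (by omega))
  have h2 : chk H.index = true := by
    unfold chk
    rw [Nat.mod_eq_zero_of_dvd hd, adm_of (hw h67) (div_mem (by decide +kernel) (by norm_num)),
      adm_of (hw h37) (div_mem (by decide +kernel) (by norm_num)), adm_of (hw h31) (div_mem (by decide +kernel) (by norm_num))]
    rfl
  rw [h2] at h1
  have h3 : H.index = 1 ∨ H.index = 2 ∨ H.index = 558 := by simpa using h1
  rcases h3 with h3 | h3 | h3
  · exact hH (Subgroup.index_eq_one.1 h3)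
  · have h4 := Subgroup.normal_of_index_eq_two h3
    rcases h4.eq_bot_or_eq_top with h5 | h5
    · rw [h5, Subgroup.index_bot, H513.AbLy.card] at h3
      norm_num at h3
    · exact hH h5
  · rw [h3] at h67
    rcases h67 with h67 | ⟨x, hx, t, hN, ht, hmod⟩
    · revert h67; norm_num
    · have h4 : t = 22 := by
        have h5 := div_mem (c := 22) (L := [1, 2, 11, 22]) (by decide +kernel) (by norm_num) t ht
        have h6 : 558 % 67 = t % 67 := hmod
        simp only [List.mem_cons, List.not_mem_nil, or_false] at h5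
        rcases h5 with rfl | rfl | rfl | rfl
        · norm_num at h6
        · norm_num at h6
        · norm_num at h6
        · rfl
      subst h4
      have h5 : Nat.card (normalizer (zpowers x : Set H)) = 67 := by omega
      have h6 := H.card_mul_index
      rw [h3, H513.AbLy.card] at h6
      have h7 : Nat.card H = 92769138000000 := by omega
      obtain ⟨y, z, hy, hz, hyz⟩ := exists_comm (r := 67) (q := 37) (by norm_num) (by norm_num) (by norm_num)
        (by norm_num) (by rw [h7]; norm_num) (by rw [h7]; norm_num) hx h5 (by rw [h7]; norm_num)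
      exact H513.AbLy.not_37_67 (x := (y : Spor.Ly)) (w := (z : Spor.Ly)) (by rw [Subgroup.orderOf_coe, hy])
        (by rw [Subgroup.orderOf_coe, hz]) (congrArg Subtype.val hyz).symm

/-! ### The row -/

theorem mo_ly : Mo Spor.Ly 333 := by
  obtain ⟨x₀, ⟨D⟩⟩ := exists_data
  intro a
  obtain ⟨g, rfl⟩ := D.inner a
  exact (Nat.le_of_dvd (orderOf_pos g) (orderOf_map_dvd MulAut.conj g)).trans (orderOf_le g)

/-- **the row of the Lyons group** -/
theorem sm_ly {T : Type u} [Group T] (h : Spor.IsoLy T) : Sm T := by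
  obtain ⟨e⟩ := h
  exact Sm.congr ⟨333, mo_ly, index_gt⟩ e.symm

theorem ord_ly {T : Type u} [Group T] (h : Spor.IsoLy T) : H384.Cyc.Ord T := by
  obtain ⟨e⟩ := h
  exact Ord.congr ⟨333, mo_ly, by rw [H513.AbLy.card]; norm_num⟩ e.symm

end Cfsg.Agent.H511.Cyc.Ly
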