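import Cfsg.Agent.H384.Cyc.Defs
import Cfsg.Agent.S2262
import Cfsg.Agent.S0243
import Cfsg.Agent.S0255

/-!
# TWOCYC (S3507): automorphisms of `PSL_n(q)`, `n ≥ 3`, have small order (helper511)
-/

set_option autoImplicit false

namespace Cfsg.Agent.H511.Cyc

open Matrix Cfsg.Agent.H384.Cyc

universe u v

theorem prod_ge {q n : ℕ} (hq : 2 ≤ q) (hn : 3 ≤ n) : 2 * (q ^ n - 1) ^ 2 < ∏ i : Fin n, (q ^ n - q ^ (i : ℕ)) := by
  obtain ⟨k, rfl⟩ : ∃ k, n = k + 3 := ⟨n - 3, by omega⟩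
  rw [Fin.prod_univ_succ, Fin.prod_univ_succ, Fin.prod_univ_succ]
  have h1 : 1 ≤ ∏ i : Fin k, (q ^ (k + 3) - q ^ ((i.succ.succ.succ : Fin (k + 3)) : ℕ)) := by
    refine Finset.one_le_prod' fun i _ => ?_
    have h2 : q ^ ((i.succ.succ.succ : Fin (k + 3)) : ℕ) < q ^ (k + 3) :=
      Nat.pow_lt_pow_right (by omega) (i.succ.succ.succ).2
    omega
  have e0 : q ^ (((0 : Fin (k + 3)) : Fin (k + 3)) : ℕ) = 1 := by simp
  have e1 : q ^ ((Fin.succ (0 : Fin (k + 2)) : Fin (k + 3)) : ℕ) = q := by simp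
  have e2 : q ^ ((Fin.succ (Fin.succ (0 : Fin (k + 1))) : Fin (k + 3)) : ℕ) = q ^ 2 := by
    rw [Fin.val_succ, Fin.val_succ, Fin.val_zero]
  rw [e0, e1, e2]
  set a := q ^ (k + 3) with ha
  have h8 : 2 ^ 3 ≤ a := (Nat.pow_le_pow_left hq 3).trans (Nat.pow_le_pow_right (by omega) (by omega))
  have hqa : 4 * q ≤ a := by
    calc 4 * q ≤ q ^ 2 * q := Nat.mul_le_mul_right q (by nlinarith)
      _ = q ^ 3 := by ring
      _ ≤ a := Nat.pow_le_pow_right (by omega) (by omega)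
  have hq2 : q ^ 2 + 4 ≤ a := by
    have h3 : q ^ 3 ≤ a := Nat.pow_le_pow_right (by omega) (by omega)
    have h4 : q ^ 2 + 4 ≤ q ^ 3 := by
      have : q ^ 3 = q ^ 2 * q := by ring
      have h5 : q ^ 2 * 2 ≤ q ^ 2 * q := Nat.mul_le_mul_left _ hq
      have h6 : 4 ≤ q ^ 2 := by nlinarith
      omega
    omega
  obtain ⟨b, hb⟩ : ∃ b, a = b + 1 := ⟨a - 1, by omega⟩
  have h3 : 2 * b < (a - q) * 4 := by omega
  have h4 : 4 ≤ a - q ^ 2 := by omega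
  calc 2 * (a - 1) ^ 2 = (a - 1) * (2 * b) := by rw [hb]; simp; ring
    _ < (a - 1) * ((a - q) * 4) := Nat.mul_lt_mul_of_pos_left h3 (by omega)
    _ ≤ (a - 1) * ((a - q) * (a - q ^ 2)) := Nat.mul_le_mul_left _ (Nat.mul_le_mul_left _ h4)
    _ = (a - 1) * ((a - q) * ((a - q ^ 2) * 1)) := by rw [mul_one]
    _ ≤ _ := Nat.mul_le_mul_left _ (Nat.mul_le_mul_left _ (Nat.mul_le_mul_left _ h1))

/-- **`Ord (PSL_n(q))`, `n ≥ 3`, `(n, q) ≠ (3, 2)`** -/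
theorem ord_psl {F : Type u} [Field F] [Fintype F] {n : ℕ} (hn : 3 ≤ n) (h32 : ¬ (n = 3 ∧ Fintype.card F = 2)) :
    H384.Cyc.Ord (ProjectiveSpecialLinearGroup (Fin n) F) := by
  have hq : 2 ≤ Fintype.card F := Fintype.one_lt_card
  obtain ⟨q, hF⟩ : ∃ q, Fintype.card F = q := ⟨_, rfl⟩
  rw [hF] at hq
  have h1 := prod_ge hq hn
  rw [← S0243.result hF n (by omega)] at h1
  have h2 : Nat.gcd n (q - 1) ≤ q - 1 := Nat.le_of_dvd (by omega) (Nat.gcd_dvd_right _ _)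
  obtain ⟨φ, hφ⟩ := (S2262.result (F := F) n (by omega) (by omega) (by omega) h32).2
  have hle := (S2262.result (F := F) n (by omega) (by omega) (by omega) h32).1
  rw [hF] at hφ
  refine ⟨orderOf φ, fun α => ?_, ?_⟩
  · have h3 := hle α
    rw [hF, ← hφ] at h3
    exact Nat.le_of_mul_le_mul_left h3 (by omega)
  · rw [← hφ] at h1
    have h3 : 2 * ((q - 1) * orderOf φ) ^ 2 < (q - 1) * ((q - 1) * Nat.card (ProjectiveSpecialLinearGroup (Fin n) F)) :=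
      h1.trans_le (Nat.mul_le_mul_right _ h2)
    have h4 : (q - 1) * ((q - 1) * (2 * orderOf φ ^ 2)) <
        (q - 1) * ((q - 1) * Nat.card (ProjectiveSpecialLinearGroup (Fin n) F)) := by
      calc (q - 1) * ((q - 1) * (2 * orderOf φ ^ 2)) = 2 * ((q - 1) * orderOf φ) ^ 2 := by ring
        _ < _ := h3
    exact Nat.lt_of_mul_lt_mul_left (Nat.lt_of_mul_lt_mul_left h4)

/-- **`Ord (PSL_3(2))`** -/
theorem ord_psl32 {F : Type u} [Field F] [Fintype F] (hF : Fintype.card F = 2) :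
    H384.Cyc.Ord (ProjectiveSpecialLinearGroup (Fin 3) F) := by
  have : Fact (Nat.Prime 7) := ⟨by norm_num⟩
  have h7 : Fintype.card (ZMod 7) = 7 := ZMod.card 7
  obtain ⟨e⟩ := S0255.result (F := ZMod 7) (K := F) h7 hF
  refine Ord.congr ⟨8, fun α => ?_, ?_⟩ e
  · have h1 := (S2262.result (F := ZMod 7) 2 le_rfl (by omega) (by omega) (by omega)).1 α
    rw [h7] at h1
    omega
  · have h1 := S0243.result (F := ZMod 7) h7 2 le_rfl
    have h2 : ∏ i : Fin 2, (7 ^ 2 - 7 ^ (i : ℕ)) = 2016 := by decide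
    rw [h2, show Nat.gcd 2 (7 - 1) = 2 by decide] at h1
    omega

end Cfsg.Agent.H511.Cyc
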