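import Cfsg.Agent.H511.Cyc.Cong
import Cfsg.Agent.H859.BigNum
import Cfsg.Agent.H859.CentC
import Cfsg.Agent.H858.Loc5
import Cfsg.Agent.H858.Loc7
import Cfsg.Agent.KFacts.J4.SheetJ4

/-!
# TWOCYC (S3507): the orders of the elements of the fourth Janko group (helper511)

* `pow_32`, `pow_9` : the exponents of the Sylow 2- and 3-subgroups (from the subgroup `2¹¹ : M₂₄`);
* `orderOf_le` : the elements have order at most 480.
-/

set_option autoImplicit false
set_option maxRecDepth 100000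

namespace Cfsg.Agent.H511.Cyc.J4

open Subgroup Cfsg
open Cfsg.Agent.H859 Cfsg.Agent.H859.BigNum Cfsg.Agent.H859.BigCent Cfsg.Agent.H858

/-! ### Permutations -/

theorem prime_pow_le {α : Type*} [Fintype α] [DecidableEq α] {p k : ℕ} (hp : p.Prime) (hk : k ≠ 0) {σ : Equiv.Perm α}
    (h : orderOf σ = p ^ k) : p ^ k ≤ Fintype.card α := by
  by_contra hcon
  have h1 : σ.cycleType.lcm ∣ p ^ (k - 1) := by
    rw [Multiset.lcm_dvd]
    intro n hn
    have h2 := Equiv.Perm.dvd_of_mem_cycleType hn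
    rw [h] at h2
    obtain ⟨j, hj, rfl⟩ := (Nat.dvd_prime_pow hp).1 h2
    rcases Nat.lt_or_ge j k with h3 | h3
    · exact pow_dvd_pow p (by omega)
    · exfalso
      have h4 : j = k := le_antisymm hj h3
      subst h4
      apply hcon
      refine (Multiset.le_sum_of_mem hn).trans ?_
      rw [σ.sum_cycleType]
      exact Finset.card_le_univ _
  rw [σ.lcm_cycleType, h, Nat.pow_dvd_pow_iff_le_right hp.one_lt] at h1
  omega

/-! ### The subgroup `2¹¹ : M₂₄` -/

instance finite_J4 : Finite Cfsg.Spor.J4 := FixJ4.facts.1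

theorem index_NE (F : J4Type.Compl Spor.J4) :
    (normalizer (F.E J4Type.hex0 : Set Spor.J4)).index = 173067389 := by
  have h1 := (normalizer (F.E J4Type.hex0 : Set Spor.J4)).card_mul_index
  rw [CentC.card_NE, FixJ4.card_J4] at h1
  omega

/-- elements of 2-power or 3-power order -/
theorem exists_conj {F : J4Type.Compl Spor.J4} {p : ℕ} (hp : p = 2 ∨ p = 3) {y : Spor.J4} {n : ℕ} (hy : y ^ p ^ n = 1) :
    ∃ g : Spor.J4, g * y * g⁻¹ ∈ normalizer (F.E J4Type.hex0 : Set Spor.J4) := by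
  have hpp : p.Prime := by rcases hp with rfl | rfl <;> norm_num
  have : Fact p.Prime := ⟨hpp⟩
  have hA : IsPGroup p (zpowers y) := by
    obtain ⟨k, -, hk⟩ := (Nat.dvd_prime_pow hpp).1 (orderOf_dvd_of_pow_eq_one hy)
    exact IsPGroup.of_card (n := k) (by rw [Nat.card_zpowers, hk])
  obtain ⟨w, hw⟩ := hA.nonempty_fixed_point_of_prime_not_dvd_card
    (Spor.J4 ⧸ normalizer (F.E J4Type.hex0 : Set Spor.J4)) (by
      rw [← Subgroup.index, index_NE]
      rcases hp with rfl | rfl <;> norm_num)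
  obtain ⟨g, rfl⟩ := QuotientGroup.mk_surjective w
  refine ⟨g⁻¹, ?_⟩
  have h1 : ((y * g : Spor.J4) : Spor.J4 ⧸ normalizer (F.E J4Type.hex0 : Set Spor.J4)) = (g : Spor.J4 ⧸ _) :=
    hw ⟨y, mem_zpowers y⟩
  have h2 := QuotientGroup.eq.1 h1.symm
  rwa [← mul_assoc, ← inv_inv g, inv_inv g⁻¹] at h2

/-- the order of a `p`-element modulo `2¹¹` -/
theorem pow_mem_E {F : J4Type.Compl Spor.J4} {p c : ℕ} (hp : p.Prime) (hc : 24 < p ^ (c + 1)) {y : Spor.J4} {n : ℕ}
    (hy : y ^ p ^ n = 1) (hyN : y ∈ normalizer (F.E J4Type.hex0 : Set Spor.J4)) : y ^ p ^ c ∈ F.E J4Type.hex0 := by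
  set σ : Equiv.Perm GolayPt := (F.π ⟨y, hyN⟩ : Equiv.Perm GolayPt) with hσ
  have h1 : σ ^ p ^ n = 1 := by
    rw [hσ]
    have h2 : (⟨y, hyN⟩ : normalizer (F.E J4Type.hex0 : Set Spor.J4)) ^ p ^ n = 1 := Subtype.ext hy
    have h3 := congrArg F.π h2
    rw [map_pow, map_one] at h3
    exact congrArg Subtype.val h3
  obtain ⟨k, -, hk⟩ := (Nat.dvd_prime_pow hp).1 (orderOf_dvd_of_pow_eq_one h1)
  have h2 : k ≤ c := by
    by_contra hcon
    have h3 := prime_pow_le hp (by omega) hk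
    have h4 : p ^ (c + 1) ≤ p ^ k := Nat.pow_le_pow_right hp.pos (by omega)
    have h5 : Fintype.card GolayPt = 24 := by decide
    omega
  have h3 : σ ^ p ^ c = 1 := by
    rw [← orderOf_dvd_iff_pow_eq_one, hk]
    exact pow_dvd_pow p h2
  have h4 : F.π (⟨y, hyN⟩ ^ p ^ c) = 1 := by
    rw [map_pow]
    exact Subtype.ext h3
  exact (F.π_ker _).1 h4

theorem exists_F : ∃ _F : J4Type.Compl Spor.J4, True := by
  obtain ⟨-, -, ⟨F⟩⟩ := KFacts.J4.Base.exists_full (K := Cfsg.Spor.J4) ⟨MulEquiv.refl _⟩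
  exact ⟨F.C, trivial⟩

theorem conj_pow_one {y g : Spor.J4} {n : ℕ} (h : (g * y * g⁻¹) ^ n = 1) : y ^ n = 1 := by
  rw [conj_pow, mul_inv_eq_one] at h
  exact mul_left_cancel (h.trans (mul_one g).symm)

/-- the exponent of the Sylow 2-subgroups -/
theorem pow_32 {y : Spor.J4} {n : ℕ} (hy : y ^ 2 ^ n = 1) : y ^ 32 = 1 := by
  obtain ⟨F, -⟩ := exists_F
  obtain ⟨g, hg⟩ := exists_conj (F := F) (Or.inl rfl) hy
  have h1 : (g * y * g⁻¹) ^ 2 ^ n = 1 := by rw [conj_pow, hy, mul_one, mul_inv_cancel]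
  have h2 := pow_mem_E (F := F) (c := 4) Nat.prime_two (by norm_num) h1 hg
  have h3 := (F.E_elem J4Type.hex0 J4Type.FusionConj.isHex_hex0).1 _ h2
  apply conj_pow_one (g := g)
  rw [show (32 : ℕ) = 2 ^ 4 * 2 by norm_num, pow_mul, pow_two]
  exact h3

/-- the exponent of the Sylow 3-subgroups -/
theorem pow_9 {y : Spor.J4} {n : ℕ} (hy : y ^ 3 ^ n = 1) : y ^ 9 = 1 := by
  obtain ⟨F, -⟩ := exists_F
  obtain ⟨g, hg⟩ := exists_conj (F := F) (Or.inr rfl) hy
  have h1 : (g * y * g⁻¹) ^ 3 ^ n = 1 := by rw [conj_pow, hy, mul_one, mul_inv_cancel]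
  have h2 := pow_mem_E (F := F) (c := 2) Nat.prime_three (by norm_num) h1 hg
  have h3 := (F.E_elem J4Type.hex0 J4Type.FusionConj.isHex_hex0).1 _ h2
  apply conj_pow_one (g := g)
  have h4 : orderOf ((g * y * g⁻¹) ^ 3 ^ 2) ∣ 2 := orderOf_dvd_of_pow_eq_one (by rw [pow_two]; exact h3)
  have h5 : orderOf ((g * y * g⁻¹) ^ 3 ^ 2) ∣ 3 ^ n := orderOf_dvd_of_pow_eq_one (by
    rw [← pow_mul, mul_comm, pow_mul, h1, one_pow])
  have h6 : orderOf ((g * y * g⁻¹) ^ 3 ^ 2) ∣ 1 := by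
    have h7 := Nat.dvd_gcd h4 h5
    rwa [Nat.Coprime.gcd_eq_one (Nat.Coprime.pow_right n (by norm_num))] at h7
  rw [Nat.dvd_one, orderOf_eq_one_iff] at h6
  exact h6

/-! ### Orders -/

theorem exists_pow {x : Spor.J4} {d : ℕ} (hd : d ∣ orderOf x) : ∃ k : ℕ, orderOf (x ^ k) = d :=
  ⟨_, orderOf_pow_orderOf_div (orderOf_pos x).ne' hd⟩

theorem dvd_of_cent {x : Spor.J4} {k N : ℕ} (h : Nat.card (centralizer ({x ^ k} : Set Spor.J4)) ∣ N) : orderOf x ∣ N := by
  have h1 : x ∈ centralizer ({x ^ k} : Set Spor.J4) :=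
    mem_centralizer_singleton_iff.2 ((Commute.refl x).pow_right k).eq
  refine dvd_trans ?_ h
  rw [← Subgroup.orderOf_mk x h1]
  exact orderOf_dvd_natCard _

theorem cent_of {x : Spor.J4} {q N : ℕ} (h : ∀ P : Subgroup Spor.J4, Nat.card P = q →
    Nat.card (centralizer (P : Set Spor.J4)) = N) (hq : q ∣ orderOf x) : orderOf x ∣ N := by
  obtain ⟨k, hk⟩ := exists_pow hq
  refine dvd_of_cent (k := k) ?_
  rw [← h (zpowers (x ^ k)) (by rw [Nat.card_zpowers, hk]), NormC.centralizer_zpowers]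

theorem cent7 (P : Subgroup Spor.J4) (hP : Nat.card P = 7) : Nat.card (centralizer (P : Set Spor.J4)) = 840 := by
  have := fact7
  rw [PrimeSub.card_centralizer_eq hP Norm57.card_S7 (sq_not_dvd (by simp))]
  exact Loc7.card_C

theorem cent5 (P : Subgroup Spor.J4) (hP : Nat.card P = 5) : Nat.card (centralizer (P : Set Spor.J4)) = 6720 := by
  have := fact5
  rw [PrimeSub.card_centralizer_eq hP Loc5.card_F5 (sq_not_dvd (by simp))]
  exact Loc5.card_C

theorem eleven {x : Spor.J4} (h : 11 ∣ orderOf x) : orderOf x ≤ 264 := by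
  have : Fact (Nat.Prime 11) := ⟨by norm_num⟩
  obtain ⟨k, hk⟩ := exists_pow h
  rcases ClassEleven.isConj_or hk with h1 | h1
  · have h2 := dvd_of_cent (x := x) (k := k) (N := 242) (by
      rw [ClassEleven.card_centralizer_conj h1, SylEleven.card_centralizer_x_eq])
    exact (Nat.le_of_dvd (by norm_num) h2).trans (by norm_num)
  · have h2 := dvd_of_cent (x := x) (k := k) (N := 24 * 11 ^ 3) (by
      rw [ClassEleven.card_centralizer_conj h1]
      exact (CentC.card_D).dvd)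
    have h3 : ¬ 11 ^ (1 + 1) ∣ orderOf x := by
      intro h4
      obtain ⟨j, hj⟩ := exists_pow h4
      obtain ⟨g, hg⟩ := SylEleven.exists_conj_mem SylEleven.isPGroup_U SylEleven.not_dvd_U (g := x ^ j)
        ⟨2, by rw [show 11 ^ 2 = orderOf (x ^ j) by rw [hj], pow_orderOf_eq_one]⟩
      have h5 : orderOf (g * x ^ j * g⁻¹) = 121 := by
        rw [show (121 : ℕ) = 11 ^ (1 + 1) by norm_num, ← hj]
        exact orderOf_injective (MulAut.conj g).toMonoidHom (MulAut.conj g).injective _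
      by_cases h6 : g * x ^ j * g⁻¹ ∈ zpowers NU.c
      · have h7 := orderOf_dvd_natCard (⟨_, h6⟩ : zpowers NU.c)
        rw [Subgroup.orderOf_mk, h5, Nat.card_zpowers, ClassEleven.orderOf_c] at h7
        norm_num at h7
      · have h7 : g * x ^ j * g⁻¹ ∈ SylEleven.orb SylEleven.N SylEleven.x := by
          rw [SylEleven.orb_eq]
          exact ⟨hg, h6⟩
        obtain ⟨n, -, hn⟩ := h7
        have h8 : orderOf (g * x ^ j * g⁻¹) = 11 := by
          rw [← ClassEleven.orderOf_x, hn]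
          exact orderOf_injective (MulAut.conj n).toMonoidHom (MulAut.conj n).injective _
        rw [h5] at h8
        norm_num at h8
    rw [mul_comm] at h2
    obtain ⟨a, b, ha, hb, hab⟩ := Nat.dvd_mul.1 h2
    obtain ⟨i, hi, rfl⟩ := (Nat.dvd_prime_pow (by norm_num : Nat.Prime 11)).1 ha
    have h4 : i ≤ 1 := by
      by_contra h5
      exact h3 ((pow_dvd_pow 11 (by omega : 1 + 1 ≤ i)).trans ⟨b, hab.symm⟩)
    have h5 : 11 ^ i ≤ 11 ^ 1 := Nat.pow_le_pow_right (by norm_num) h4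
    have h6 : b ≤ 24 := Nat.le_of_dvd (by norm_num) hb
    rw [← hab]
    calc 11 ^ i * b ≤ 11 ^ 1 * 24 := Nat.mul_le_mul h5 h6
      _ = 264 := by norm_num

theorem ne_840 {x : Spor.J4} (h : orderOf x = 840) : False := by
  have := fact7
  obtain ⟨k, hk⟩ := exists_pow (x := x) (d := 7) (by rw [h]; norm_num)
  obtain ⟨g, hg⟩ := PrimeSub.exists_conj (P := zpowers (x ^ k)) (P' := Norm57.S7) (by rw [Nat.card_zpowers, hk])
    Norm57.card_S7 (sq_not_dvd (by simp))
  have h1 : g * x * g⁻¹ ∈ centralizer (Norm57.S7 : Set Spor.J4) := by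
    rw [← hg, mem_centralizer_iff]
    rintro _ ⟨_, ⟨i, rfl⟩, rfl⟩
    have h2 : x * (x ^ k) ^ i = (x ^ k) ^ i * x := (((Commute.refl x).pow_right k).zpow_right i).eq
    change g * (x ^ k) ^ i * g⁻¹ * (g * x * g⁻¹) = g * x * g⁻¹ * (g * (x ^ k) ^ i * g⁻¹)
    calc g * (x ^ k) ^ i * g⁻¹ * (g * x * g⁻¹) = g * ((x ^ k) ^ i * x) * g⁻¹ := by group
      _ = g * (x * (x ^ k) ^ i) * g⁻¹ := by rw [h2]
      _ = _ := by group
  have h2 : zpowers (g * x * g⁻¹) = centralizer (Norm57.S7 : Set Spor.J4) := by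
    apply eq_of_le_of_card_ge (zpowers_le.2 h1)
    rw [Loc7.card_C, Nat.card_zpowers]
    refine le_of_eq ?_
    rw [← h]
    exact (orderOf_injective (MulAut.conj g).toMonoidHom (MulAut.conj g).injective _).symm
  obtain ⟨e⟩ := Loc7.equiv_I0
  have h3 : ∀ a b : Equiv.Perm (Fin 5), a * b = b * a := by
    intro a b
    apply e.symm.injective
    rw [map_mul, map_mul]
    apply Subtype.ext
    have h4 : ∀ c : Equiv.Perm (Fin 5), ((e.symm c : Loc7.I0) : Spor.J4) ∈ zpowers (g * x * g⁻¹) := fun c => by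
      rw [h2]
      exact Loc7.I0_le_C (e.symm c).2
    obtain ⟨i, hi⟩ := h4 a
    obtain ⟨j, hj⟩ := h4 b
    change ((e.symm a : Loc7.I0) : Spor.J4) * ((e.symm b : Loc7.I0) : Spor.J4) = ((e.symm b : Loc7.I0) : Spor.J4) * _
    rw [← hi, ← hj]
    exact ((Commute.refl (g * x * g⁻¹)).zpow_zpow i j).eq
  have h4 := h3 (Equiv.swap 0 1) (Equiv.swap 1 2)
  revert h4
  decide

/-- **the orders of the elements** -/
theorem orderOf_le (x : Spor.J4) : orderOf x ≤ 480 := by
  by_cases h43 : 43 ∣ orderOf x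
  · exact (Nat.le_of_dvd (by norm_num) (cent_of (fun P hP => (data43 hP).1) h43)).trans (by norm_num)
  by_cases h37 : 37 ∣ orderOf x
  · exact (Nat.le_of_dvd (by norm_num) (cent_of (fun P hP => (data37 hP).1) h37)).trans (by norm_num)
  by_cases h31 : 31 ∣ orderOf x
  · exact (Nat.le_of_dvd (by norm_num) (cent_of (fun P hP => (data31 hP).1) h31)).trans (by norm_num)
  by_cases h29 : 29 ∣ orderOf x
  · exact (Nat.le_of_dvd (by norm_num) (cent_of (fun P hP => (data29' hP).1) h29)).trans (by norm_num)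
  by_cases h23 : 23 ∣ orderOf x
  · exact (Nat.le_of_dvd (by norm_num) (cent_of (fun P hP => (data23 hP).1) h23)).trans (by norm_num)
  by_cases h11 : 11 ∣ orderOf x
  · exact (eleven h11).trans (by norm_num)
  by_cases h7 : 7 ∣ orderOf x
  · have h1 := cent_of cent7 h7
    obtain ⟨m, hm⟩ := h1
    rcases Nat.lt_or_ge m 2 with h2 | h2
    · interval_cases m
      · norm_num at hm
      · exact absurd (by rw [mul_one] at hm; exact hm.symm) (fun h => ne_840 (x := x) h)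
    · have : orderOf x * 2 ≤ orderOf x * m := Nat.mul_le_mul_left _ h2
      omega
  have h64 : ¬ 2 ^ 6 ∣ orderOf x := by
    intro h
    obtain ⟨k, hk⟩ := exists_pow h
    have h3 := pow_32 (y := x ^ k) (n := 6) (by rw [← hk, pow_orderOf_eq_one])
    have h4 := orderOf_dvd_of_pow_eq_one h3
    rw [hk] at h4
    exact absurd (Nat.le_of_dvd (by norm_num) h4) (by norm_num)
  have h27 : ¬ 3 ^ 3 ∣ orderOf x := by
    intro h
    obtain ⟨k, hk⟩ := exists_pow h
    have h3 := pow_9 (y := x ^ k) (n := 3) (by rw [← hk, pow_orderOf_eq_one])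
    have h4 := orderOf_dvd_of_pow_eq_one h3
    rw [hk] at h4
    exact absurd (Nat.le_of_dvd (by norm_num) h4) (by norm_num)
  have key : ∀ {r a N : ℕ}, r.Prime → ¬ r ∣ orderOf x → orderOf x ∣ r ^ a * N → orderOf x ∣ N := fun hr h hd =>
    (((Nat.Prime.coprime_iff_not_dvd hr).2 h).symm.pow_right _).dvd_of_dvd_mul_left hd
  have key2 : ∀ {r a k N : ℕ}, r.Prime → ¬ r ^ (k + 1) ∣ orderOf x → orderOf x ∣ r ^ a * N → orderOf x ∣ r ^ k * N := by
    intro r a k N hr h hd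
    obtain ⟨y, z, hy, hz, hyz⟩ := Nat.dvd_mul.1 hd
    obtain ⟨i, hi, rfl⟩ := (Nat.dvd_prime_pow hr).1 hy
    rw [← hyz] at h ⊢
    refine Nat.mul_dvd_mul (pow_dvd_pow r ?_) hz
    by_contra hlt
    exact h (Dvd.dvd.mul_right (pow_dvd_pow r (by omega)) _)
  by_cases h5 : 5 ∣ orderOf x
  · have h1 := cent_of cent5 h5
    rw [show (6720 : ℕ) = 2 ^ 6 * (7 ^ 1 * 15) by norm_num] at h1
    have h2 := key2 (k := 5) Nat.prime_two h64 h1
    rw [show (2 ^ 5 * (7 ^ 1 * 15) : ℕ) = 7 ^ 1 * 480 by norm_num] at h2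
    exact Nat.le_of_dvd (by norm_num) (key (by norm_num) h7 h2)
  · have hd := orderOf_dvd_natCard x
    rw [FixJ4.card_J4, show (86775571046077562880 : ℕ) =
      43 ^ 1 * (37 ^ 1 * (31 ^ 1 * (29 ^ 1 * (23 ^ 1 * (11 ^ 3 * (7 ^ 1 * (5 ^ 1 * (3 ^ 3 * 2 ^ 21)))))))) by norm_num] at hd
    have h1 := key Nat.prime_five h5 (key (by norm_num) h7 (key (by norm_num) h11 (key (by norm_num) h23
      (key (by norm_num) h29 (key (by norm_num) h31 (key (by norm_num) h37 (key (by norm_num) h43 hd)))))))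
    have h2 := key2 (k := 2) Nat.prime_three h27 h1
    rw [mul_comm] at h2
    have h3 := key2 (k := 5) Nat.prime_two h64 h2
    exact (Nat.le_of_dvd (by norm_num) h3).trans (by norm_num)

end Cfsg.Agent.H511.Cyc.J4
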