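import Mathlib

/-!
# Elements of order 13 in `SL_4(3)` (helper511)

`eq_one_or_neg` : if `a` commutes with an element `b ≠ 1` of order 13, `a² = ±1` and `det a = 1`, then `a = ±1`.
-/

set_option autoImplicit false

namespace Cfsg.Agent.H511.Cyc

open Module

variable {F : Type*} [Field F] [Fintype F] {V : Type*} [AddCommGroup V] [Module F V] [FiniteDimensional F V]

theorem num1 (k : ℕ) (hk : k ≤ 4) (h : 3 ^ k ≡ 1 [MOD 13]) : k = 0 ∨ k = 3 := by
  unfold Nat.ModEq at h
  interval_cases k
  · exact Or.inl rfl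
  · exact absurd h (by norm_num)
  · exact absurd h (by norm_num)
  · exact Or.inr rfl
  · exact absurd h (by norm_num)

theorem num2 (k : ℕ) (hk : k ≤ 4) (h : 3 ^ 4 ≡ 3 ^ k [MOD 13]) : k = 1 ∨ k = 4 := by
  unfold Nat.ModEq at h
  interval_cases k
  · exact absurd h (by norm_num)
  · exact Or.inl rfl
  · exact absurd h (by norm_num)
  · exact absurd h (by norm_num)
  · exact Or.inr rfl

theorem card_modEq (b : End F V) (hb : b ^ 13 = 1) (W : Submodule F V) (hW : ∀ w ∈ W, b w ∈ W) :
    Nat.card W ≡ Nat.card (W ⊓ LinearMap.ker (b - 1) : Submodule F V) [MOD 13] := by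
  classical
  have : Fact (Nat.Prime 13) := ⟨by norm_num⟩
  have hfin : Finite V := Module.finite_of_finite F
  have : Fintype V := Fintype.ofFinite V
  let f : Function.End W := fun w => ⟨b w, hW w w.2⟩
  have hpow : ∀ (k : ℕ) (w : W), (((f ^ k) w : W) : V) = (b ^ k) w := by
    intro k
    induction k with
    | zero => intro w; rfl
    | succ k ih =>
      intro w
      have h1 : (f ^ (k + 1)) w = (f ^ k) (f w) := rfl
      rw [h1, ih]
      rfl
  have hf : f ^ 13 ^ 1 = 1 := by
    funext w
    apply Subtype.ext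
    rw [hpow, pow_one, hb]
    rfl
  have h1 := Equiv.Perm.card_fixedPoints_modEq hf
  rw [← Nat.card_eq_fintype_card, ← Nat.card_eq_fintype_card] at h1
  have h2 : Nat.card (Function.fixedPoints f) = Nat.card (W ⊓ LinearMap.ker (b - 1) : Submodule F V) := by
    refine Nat.card_congr
      { toFun := fun w => ⟨w.1.1, w.1.2, ?_⟩
        invFun := fun w => ⟨⟨w.1, w.2.1⟩, ?_⟩
        left_inv := fun _ => rfl
        right_inv := fun _ => rfl }
    · have h3 : b w.1.1 = w.1.1 := congrArg Subtype.val w.2
      show (b - 1) w.1.1 = 0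
      rw [LinearMap.sub_apply, h3]
      exact sub_self _
    · have h3 : (b - 1) w.1 = 0 := w.2.2
      rw [LinearMap.sub_apply, sub_eq_zero] at h3
      exact Subtype.ext h3
  rw [h2] at h1
  exact h1

theorem eq_one_of_fix (hF : Fintype.card F = 3) (hV : finrank F V = 4) {a b : End F V} (hb : b ^ 13 = 1)
    (hab : a * b = b * a) (ha : a ^ 2 = 1) (hdet : LinearMap.det a = 1) {v : V} (hv : v ≠ 0) (hk : finrank F (LinearMap.ker (b - 1)) = 1)
    (hbv : b v = v) (hav : a v = v) : a = 1 := by
  have hcard : ∀ W : Submodule F V, Nat.card W = 3 ^ finrank F W := fun W => by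
    rw [Module.natCard_eq_pow_finrank (K := F), Nat.card_eq_fintype_card, hF]
  have hvk : v ∈ LinearMap.ker (b - 1) := by
    rw [LinearMap.mem_ker, LinearMap.sub_apply, hbv]
    exact sub_self _
  have haa : ∀ u, a (a u) = u := fun u => by
    have := LinearMap.congr_fun ha u
    rwa [sq] at this
  have hchar : ∀ u : V, u = -u → u = 0 := by
    intro u hu
    have h2 : (2 : F) • u = 0 := by
      rw [two_smul]
      nth_rewrite 1 [hu]
      exact neg_add_cancel u
    rcases smul_eq_zero.1 h2 with h3 | h3
    · exfalso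
      have h4 : ((Fintype.card F : ℕ) : F) = 0 := Nat.cast_card_eq_zero F
      rw [hF] at h4
      have h5 : (3 : F) = 2 + 1 := by norm_num
      push_cast at h4
      rw [h5, h3, zero_add] at h4
      exact one_ne_zero h4
    · exact h3
  set W := LinearMap.ker (a + 1) with hWdef
  have hWmem : ∀ u, u ∈ W ↔ a u = -u := by
    intro u
    rw [hWdef, LinearMap.mem_ker, LinearMap.add_apply, Module.End.one_apply]
    exact ⟨eq_neg_of_add_eq_zero_left, fun h => by rw [h]; exact neg_add_cancel u⟩
  have hWb : ∀ w ∈ W, b w ∈ W := by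
    intro w hw
    rw [hWmem] at hw ⊢
    have h1 := LinearMap.congr_fun hab w
    change a (b w) = b (a w) at h1
    rw [h1, hw, map_neg]
  have hinf : (W ⊓ LinearMap.ker (b - 1) : Submodule F V) = ⊥ := by
    rw [eq_bot_iff]
    rintro u ⟨hu1, hu2⟩
    obtain ⟨c, hc⟩ := (finrank_eq_one_iff_of_nonzero' (⟨v, hvk⟩ : LinearMap.ker (b - 1)) (by
      intro h; exact hv (congrArg Subtype.val h))).1 hk ⟨u, hu2⟩
    have hc' : c • v = u := congrArg Subtype.val hc
    have h1 : a u = u := by rw [← hc', map_smul, hav]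
    have h2 := (hWmem u).1 hu1
    rw [h1] at h2
    exact (Submodule.mem_bot F).2 (hchar u h2)
  have h1 := card_modEq b hb W hWb
  rw [hinf, hcard W] at h1
  have h2 : Nat.card (⊥ : Submodule F V) = 1 := Nat.card_unique
  rw [h2] at h1
  have hle : finrank F W ≤ 4 := by rw [← hV]; exact Submodule.finrank_le W
  have h3 : finrank F W = 0 ∨ finrank F W = 3 := by
    exact num1 _ hle h1
  rcases h3 with h3 | h3
  · have hbot : W = ⊥ := Submodule.finrank_eq_zero.1 h3
    apply LinearMap.ext
    intro u
    have h4 : a u - u ∈ W := by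
      rw [hWmem, map_sub, haa]
      abel
    rw [hbot, Submodule.mem_bot, sub_eq_zero] at h4
    exact h4
  · exfalso
    have hinv : W ≤ W.comap a := by
      intro w hw
      rw [Submodule.mem_comap, hWmem, haa]
      rw [hWmem] at hw
      rw [hw, neg_neg]
    have h4 := LinearMap.det_eq_det_mul_det W a hinv
    have h5 : a.restrict (p := W) (q := W) hinv = (-1 : F) • LinearMap.id := by
      apply LinearMap.ext
      intro w
      apply Subtype.ext
      show a w = (-1 : F) • (w : V)
      rw [neg_smul, one_smul]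
      exact (hWmem w).1 w.2
    have h6 : W.mapQ W a hinv = LinearMap.id := by
      apply LinearMap.ext
      intro u
      obtain ⟨u, rfl⟩ := Submodule.mkQ_surjective W u
      rw [Submodule.mkQ_apply, Submodule.mapQ_apply, LinearMap.id_apply, Submodule.Quotient.eq]
      rw [hWmem, map_sub, haa]
      abel
    rw [h5, h6, LinearMap.det_smul, LinearMap.det_id, LinearMap.det_id, h3, hdet] at h4
    have h7 : (1 : F) = -1 := by
      calc (1 : F) = (-1) ^ 3 * 1 * 1 := h4
        _ = -1 := by norm_num
    have h8 : v = -v := by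
      calc v = (1 : F) • v := (one_smul F v).symm
        _ = (-1 : F) • v := by rw [← h7]
        _ = -v := by rw [neg_smul, one_smul]
    exact hv (hchar v h8)

theorem eq_one_or_neg (hF : Fintype.card F = 3) (hV : finrank F V = 4) {a b : End F V} (hb : b ^ 13 = 1) (hb1 : b ≠ 1)
    (hab : a * b = b * a) (ha : a ^ 2 = 1 ∨ a ^ 2 = -1) (hdet : LinearMap.det a = 1) : a = 1 ∨ a = -1 := by
  have hcard : ∀ W : Submodule F V, Nat.card W = 3 ^ finrank F W := fun W => by
    rw [Module.natCard_eq_pow_finrank (K := F), Nat.card_eq_fintype_card, hF]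
  have hchar : ∀ u : V, u = -u → u = 0 := by
    intro u hu
    have h2 : (2 : F) • u = 0 := by
      rw [two_smul]
      nth_rewrite 1 [hu]
      exact neg_add_cancel u
    rcases smul_eq_zero.1 h2 with h3 | h3
    · exfalso
      have h4 : ((Fintype.card F : ℕ) : F) = 0 := Nat.cast_card_eq_zero F
      rw [hF] at h4
      have h5 : (3 : F) = 2 + 1 := by norm_num
      push_cast at h4
      rw [h5, h3, zero_add] at h4
      exact one_ne_zero h4
    · exact h3
  have hk : finrank F (LinearMap.ker (b - 1)) = 1 := by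
    have h1 := card_modEq b hb ⊤ (fun _ _ => trivial)
    rw [top_inf_eq, hcard, hcard, finrank_top, hV] at h1
    have hle : finrank F (LinearMap.ker (b - 1)) ≤ 4 := by rw [← hV]; exact Submodule.finrank_le _
    have h3 : finrank F (LinearMap.ker (b - 1)) = 1 ∨ finrank F (LinearMap.ker (b - 1)) = 4 := by
      exact num2 _ hle h1
    rcases h3 with h3 | h3
    · exact h3
    · exfalso
      apply hb1
      have h4 : LinearMap.ker (b - 1) = ⊤ := Submodule.eq_top_of_finrank_eq (by rw [h3, hV])
      rw [LinearMap.ker_eq_top, sub_eq_zero] at h4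
      exact h4
  obtain ⟨⟨v, hvk⟩, hv0, -⟩ := finrank_eq_one_iff'.1 hk
  have hv : v ≠ 0 := fun h => hv0 (Subtype.ext h)
  have hbv : b v = v := by
    rw [LinearMap.mem_ker, LinearMap.sub_apply, sub_eq_zero] at hvk
    exact hvk
  have havk : a v ∈ LinearMap.ker (b - 1) := by
    rw [LinearMap.mem_ker, LinearMap.sub_apply, sub_eq_zero]
    have h1 := LinearMap.congr_fun hab v
    change a (b v) = b (a v) at h1
    rw [hbv] at h1
    exact h1.symm
  obtain ⟨c, hc⟩ := (finrank_eq_one_iff_of_nonzero' (⟨v, hvk⟩ : LinearMap.ker (b - 1)) hv0).1 hk ⟨a v, havk⟩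
  have hc' : a v = c • v := (congrArg Subtype.val hc).symm
  have ha2 : (a ^ 2) v = (c ^ 2) • v := by
    rw [sq, Module.End.mul_apply, hc', map_smul, hc', smul_smul, sq]
  have hc0 : c ≠ 0 := by
    rintro rfl
    rw [zero_pow two_ne_zero, zero_smul] at ha2
    rcases ha with h | h
    · rw [h] at ha2
      exact hv ha2
    · rw [h, LinearMap.neg_apply, Module.End.one_apply, neg_eq_zero] at ha2
      exact hv ha2
  have hc2 : c ^ 2 = 1 := by
    have := FiniteField.pow_card_sub_one_eq_one c hc0
    rwa [hF] at this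
  rw [hc2, one_smul] at ha2
  have ha1 : a ^ 2 = 1 := by
    rcases ha with h | h
    · exact h
    · exfalso
      rw [h, LinearMap.neg_apply, Module.End.one_apply] at ha2
      exact hv (hchar v ha2.symm)
  have h1 : c • a = 1 := by
    refine eq_one_of_fix hF hV hb ?_ ?_ ?_ hv hk hbv ?_
    · rw [smul_mul_assoc, mul_smul_comm, hab]
    · rw [smul_pow, hc2, one_smul, ha1]
    · rw [LinearMap.det_smul, hV, hdet, mul_one]
      calc c ^ 4 = (c ^ 2) ^ 2 := by ring
        _ = 1 := by rw [hc2, one_pow]
    · rw [LinearMap.smul_apply, hc', smul_smul, ← sq, hc2, one_smul]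
  have h9 : c * c = 1 := by rw [← sq]; exact hc2
  rcases mul_self_eq_one_iff.1 h9 with h | h
  · left
    rwa [h, one_smul] at h1
  · right
    rw [h, neg_smul, one_smul] at h1
    rw [← h1, neg_neg]

end Cfsg.Agent.H511.Cyc
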